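import Groth.Agent.ResProp.EF.K412.Defs
import Mathlib

/-!
# N2, part a (helper982, independent copy): groupoid lemmas, families, the matrices of a point
-/

set_option autoImplicit false
set_option linter.unusedSectionVars false
set_option linter.style.haveILetI false
universe u v w

open Groth.Agent.Grpsch.AffGrpd TensorProduct

namespace Groth.Agent.ResProp.EF.K982

section Grpd

variable {A B : Type u} [CommRing A] [CommRing B] {G : RGrpd A B} {T : Type u} [CommRing T]

lemma comp_congr {α α' β β' : B →+* T} (hα : α = α') (hβ : β = β') (h : α.comp G.s = β.comp G.t)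
    (h' : α'.comp G.s = β'.comp G.t) : G.comp α β h = G.comp α' β' h' := by
  subst hα hβ; rfl

lemma inv_s (α : B →+* T) : (α.comp G.i).comp G.s = α.comp G.t := by rw [RingHom.comp_assoc, G.i_s]

lemma inv_t (α : B →+* T) : (α.comp G.i).comp G.t = α.comp G.s := by rw [RingHom.comp_assoc, G.i_t]

lemma comp_one_right (α β : B →+* T) (h : α.comp G.s = β.comp G.t)
    (hβ : β = (α.comp G.s).comp G.e) : G.comp α β h = α := by
  subst hβ; exact G.comp_e α

lemma comp_one_left (α β : B →+* T) (h : α.comp G.s = β.comp G.t)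
    (hα : α = (β.comp G.t).comp G.e) : G.comp α β h = β := by
  subst hα; exact G.e_comp β

lemma inv_eq (δ δ' : B →+* T) (h : δ.comp G.s = δ'.comp G.t)
    (h1 : G.comp δ δ' h = (δ.comp G.t).comp G.e) : δ.comp G.i = δ' := by
  have e1 : G.comp (δ.comp G.i) (G.comp δ δ' h) (by rw [inv_s, G.comp_t]) = δ.comp G.i := by
    apply comp_one_right
    rw [h1, inv_s]
  rw [← e1, ← G.assoc _ _ _ (by rw [inv_s]) h]
  apply comp_one_left
  rw [G.i_comp, h]

lemma inv_comp (α β : B →+* T) (h : α.comp G.s = β.comp G.t) :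
    (G.comp α β h).comp G.i =
      G.comp (β.comp G.i) (α.comp G.i) (by rw [inv_s, inv_t, h]) := by
  apply inv_eq _ _ (by rw [G.comp_s, G.comp_t, inv_t])
  have h0 : (β.comp G.i).comp G.s = (α.comp G.i).comp G.t := by rw [inv_s, inv_t, h]
  have h1 : β.comp G.s = (G.comp (β.comp G.i) (α.comp G.i) h0).comp G.t := by rw [G.comp_t, inv_t]
  have e2 : G.comp β (G.comp (β.comp G.i) (α.comp G.i) h0) h1 = α.comp G.i := by
    rw [← G.assoc β (β.comp G.i) (α.comp G.i) (by rw [inv_t]) h0]
    apply comp_one_left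
    rw [G.comp_i, inv_t, h]
  refine (G.assoc α β _ h h1).trans ?_
  refine Eq.trans ?_ (congrArg (fun z => z.comp G.e) (G.comp_t α β h)).symm
  exact (comp_congr rfl e2 _ (by rw [inv_t])).trans (G.comp_i α)

lemma inv_one (x : A →+* T) : (x.comp G.e).comp G.i = x.comp G.e := by
  have h1 : (x.comp G.e).comp G.s = x := by rw [RingHom.comp_assoc, G.e_s, RingHom.comp_id]
  have h2 : (x.comp G.e).comp G.t = x := by rw [RingHom.comp_assoc, G.e_t, RingHom.comp_id]
  apply inv_eq _ _ (h1.trans h2.symm)
  rw [comp_one_right _ _ _ (by rw [h1]), h2]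

lemma inv_inv (α : B →+* T) : (α.comp G.i).comp G.i = α := by
  apply inv_eq _ _ (by rw [inv_s])
  rw [G.i_comp, inv_t]

end Grpd

section tp

variable {R : Type v} [CommRing R] {ι κ μ : Type} [Fintype ι] [Fintype κ] [Fintype μ]

/-- tensor powers of a matrix -/
def tp (m : ℕ) (M : Matrix ι κ R) : Matrix (Fin m → ι) (Fin m → κ) R :=
  Matrix.of fun I J => ∏ k, M (I k) (J k)

@[simp] lemma tp_apply (m : ℕ) (M : Matrix ι κ R) (I : Fin m → ι) (J : Fin m → κ) :
    tp m M I J = ∏ k, M (I k) (J k) := rfl

lemma tp_mul (m : ℕ) (M : Matrix ι κ R) (N : Matrix κ μ R) : tp m (M * N) = tp m M * tp m N := by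
  ext I J
  simp only [tp_apply, Matrix.mul_apply]
  rw [Finset.prod_univ_sum]
  simp [Finset.prod_mul_distrib, Fintype.piFinset_univ]

lemma tp_one [DecidableEq ι] (m : ℕ) : tp m (1 : Matrix ι ι R) = 1 := by
  ext I J
  simp only [tp_apply, Matrix.one_apply]
  by_cases h : I = J
  · subst h; simp
  · rw [if_neg h]
    obtain ⟨k, hk⟩ := Function.ne_iff.mp h
    exact Finset.prod_eq_zero (Finset.mem_univ k) (if_neg hk)

lemma tp_map {R' : Type w} [CommRing R'] (f : R →+* R') (m : ℕ) (M : Matrix ι κ R) :
    (tp m M).map f = tp m (M.map f) := by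
  ext I J
  simp [map_prod]

end tp

section Fam

variable {A B : Type u} [CommRing A] [CommRing B] (G : RGrpd A B)

/-- a finite family spanning a comodule -/
structure Fam (ι : Type) [Fintype ι] where
  C : ι → B
  h : Matrix ι ι B
  comp_C : ∀ {T : Type u} [CommRing T] (α β : B →+* T) (hh : α.comp G.s = β.comp G.t) (j : ι),
    G.comp α β hh (C j) = ∑ i, α (C i) * β (h i j)

variable {G} {ι : Type} [Fintype ι]

/-- values of the family -/
def Fam.ev (F : Fam G ι) {T : Type u} [CommRing T] (β : B →+* T) : ι → T := fun i => β (F.C i)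

lemma Fam.ev_comp (F : Fam G ι) {T : Type u} [CommRing T] (α β : B →+* T)
    (hh : α.comp G.s = β.comp G.t) : F.ev (G.comp α β hh) = Matrix.vecMul (F.ev α) (F.h.map β) := by
  funext j
  rw [Fam.ev, F.comp_C]
  rfl

/-- monomials -/
def Fam.mon (F : Fam G ι) (m : ℕ) : Fam G (Fin m → ι) where
  C J := ∏ k, F.C (J k)
  h := tp m F.h
  comp_C α β hh J := by
    simp only [map_prod, F.comp_C, tp_apply]
    rw [Finset.prod_univ_sum]
    simp [Finset.prod_mul_distrib, Fintype.piFinset_univ]

end Fam

section KM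

variable {A B : Type u} [CommRing A] [CommRing B] {G : RGrpd A B} {k : Type u} [Field k] (x : A →+* k)
  {ι : Type} [Fintype ι]

/-- the matrices of the point `x` for the family `F` -/
structure KM (F : Fam G ι) (r : ℕ) where
  Mb : Matrix (Fin r) ι k
  S : Matrix ι (Fin r) k
  MS : Mb * S = 1
  rc : ∀ {T : Type u} [CommRing T] (y : k →+* T) (α : B →+* T), α.comp G.s = y.comp x →
    Matrix.vecMul (F.ev α) ((S * Mb).map y) = F.ev α
  kill : ∀ {T : Type u} [CommRing T] (y : k →+* T) (v : ι → T),
    (∀ {T' : Type u} [CommRing T'] (f : T →+* T') (β : B →+* T'), β.comp G.s = (f.comp y).comp x →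
      F.ev β ⬝ᵥ (fun i => f (v i)) = 0) → Matrix.mulVec (Mb.map y) v = 0

theorem exists_KM (F : Fam G ι) : ∃ r, Nonempty (KM x F r) := by
  classical
  letI : Algebra A k := x.toAlgebra
  letI : Algebra A B := G.s.toAlgebra
  let Gx := k ⊗[A] B
  let pi : B → Gx := fun b => (1 : k) ⊗ₜ[A] b
  let N : Submodule k Gx := Submodule.span k (Set.range fun i => pi (F.C i))
  haveI : FiniteDimensional k N := FiniteDimensional.span_of_finite k (Set.finite_range _)
  let r := Module.finrank k N
  let bas : Module.Basis (Fin r) k N := Module.finBasis k N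
  obtain ⟨p, hp⟩ := LinearMap.exists_leftInverse_of_injective N.subtype (Submodule.ker_subtype N)
  have hp' : ∀ z : N, p (z : Gx) = z := fun z => LinearMap.congr_fun hp z
  let lam : Fin r → Gx →ₗ[k] k := fun b => (bas.coord b).comp p
  have hmem : ∀ i, pi (F.C i) ∈ N := fun i => Submodule.subset_span ⟨i, rfl⟩
  have hS : ∀ b : Fin r, ∃ c : ι → k, ∑ i, c i • pi (F.C i) = (bas b : Gx) := fun b =>
    (Submodule.mem_span_range_iff_exists_fun k).mp (bas b).2
  choose c hc using hS
  have hpi : ∀ i, pi (F.C i) = ∑ b, lam b (pi (F.C i)) • (bas b : Gx) := by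
    intro i
    have h3 : ∀ b, lam b (pi (F.C i)) = bas.repr ⟨pi (F.C i), hmem i⟩ b := by
      intro b
      change bas.coord b (p (pi (F.C i))) = _
      rw [show p (pi (F.C i)) = ⟨pi (F.C i), hmem i⟩ from hp' ⟨pi (F.C i), hmem i⟩]
      rfl
    have h2 := congrArg (N.subtype) (bas.sum_repr ⟨pi (F.C i), hmem i⟩)
    rw [map_sum] at h2
    simp only [map_smul, Submodule.subtype_apply] at h2
    simp only [h3]
    exact h2.symm
  refine ⟨r, ⟨⟨Matrix.of fun b i => lam b (pi (F.C i)), Matrix.of fun i b => c b i, ?_, ?_, ?_⟩⟩⟩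
  · ext b b'
    simp only [Matrix.mul_apply, Matrix.of_apply]
    have : lam b (∑ i, c b' i • pi (F.C i)) = lam b (bas b' : Gx) := by rw [hc]
    rw [map_sum] at this
    simp only [map_smul, smul_eq_mul] at this
    have h3 : lam b (bas b' : Gx) = (1 : Matrix (Fin r) (Fin r) k) b b' := by
      change bas.coord b (p (bas b' : Gx)) = _
      rw [hp', Module.Basis.coord_apply, Module.Basis.repr_self, Matrix.one_apply, Finsupp.single_apply]
      simp only [eq_comm]
    rw [← h3, ← this]
    exact Finset.sum_congr rfl fun i _ => mul_comm _ _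
  · intro T _ y α hα
    letI : Algebra A T := (y.comp x).toAlgebra
    let yA : k →ₐ[A] T := { y with commutes' := fun a => rfl }
    let αA : B →ₐ[A] T := { α with commutes' := fun a => RingHom.congr_fun hα a }
    let φ : Gx →ₐ[A] T := Algebra.TensorProduct.productMap yA αA
    have hφ : ∀ (d : k) (b : B), φ (d • pi b) = y d * α b := by
      intro d b
      have : d • pi b = d ⊗ₜ[A] b := by
        change d • ((1 : k) ⊗ₜ[A] b) = _
        rw [TensorProduct.smul_tmul', smul_eq_mul, mul_one]
      rw [this]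
      exact Algebra.TensorProduct.productMap_apply_tmul yA αA d b
    funext i
    have h1 : pi (F.C i) = ∑ j, (∑ b, c b j * lam b (pi (F.C i))) • pi (F.C j) := by
      conv_lhs => rw [hpi i]
      simp only [← hc, Finset.smul_sum, smul_smul, Finset.sum_smul]
      rw [Finset.sum_comm]
      refine Finset.sum_congr rfl fun j _ => Finset.sum_congr rfl fun b _ => ?_
      rw [mul_comm]
    have h2 := congrArg φ h1
    rw [map_sum] at h2
    simp only [hφ] at h2
    have h0 : φ (pi (F.C i)) = α (F.C i) := by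
      have := hφ 1 (F.C i)
      rwa [one_smul, map_one, one_mul] at this
    rw [h0] at h2
    change ∑ j, F.ev α j * y (∑ b, c b j * lam b (pi (F.C i))) = F.ev α i
    rw [Fam.ev, h2]
    exact Finset.sum_congr rfl fun j _ => mul_comm _ _
  · intro T _ y v hv
    letI : Algebra A T := (y.comp x).toAlgebra
    funext b
    have h1 := hv (T' := T ⊗[A] B) (Algebra.TensorProduct.includeLeftRingHom)
      (Algebra.TensorProduct.includeRight.toRingHom) (by
        ext a
        exact ((Algebra.TensorProduct.includeRight : B →ₐ[A] T ⊗[A] B).commutes a).trans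
          ((Algebra.TensorProduct.includeLeft : T →ₐ[A] T ⊗[A] B).commutes a).symm)
    let g : B →ₗ[A] T :=
      { toFun := fun z => y (lam b (pi z))
        map_add' := fun z z' => by
          simp only [pi, TensorProduct.tmul_add, map_add]
        map_smul' := fun a z => by
          have : pi (a • z) = x a • pi z := by
            change (1 : k) ⊗ₜ[A] (a • z) = x a • ((1 : k) ⊗ₜ[A] z)
            rw [TensorProduct.tmul_smul, TensorProduct.smul_tmul', TensorProduct.smul_tmul']
            rfl
          rw [this, map_smul, smul_eq_mul, map_mul]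
          rfl }
    let Λ : T ⊗[A] B →ₗ[A] T := TensorProduct.lift ((LinearMap.mul A T).compl₂ g)
    have hΛ : ∀ (t : T) (z : B), Λ (t ⊗ₜ z) = t * y (lam b (pi z)) := fun t z => rfl
    have h2 := congrArg Λ h1
    rw [map_zero] at h2
    change _ = (0 : T)
    rw [← h2]
    simp only [dotProduct, Matrix.mulVec, Matrix.map_apply, Matrix.of_apply, map_sum]
    refine Finset.sum_congr rfl fun i _ => ?_
    have : (F.ev (Algebra.TensorProduct.includeRight.toRingHom : B →+* T ⊗[A] B) i *
      Algebra.TensorProduct.includeLeftRingHom (v i) : T ⊗[A] B) = v i ⊗ₜ F.C i := by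
      change ((1 : T) ⊗ₜ[A] F.C i) * (v i ⊗ₜ[A] (1 : B)) = _
      rw [Algebra.TensorProduct.tmul_mul_tmul, one_mul, mul_one]
    rw [this, hΛ, mul_comm]

end KM

end Groth.Agent.ResProp.EF.K982
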