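import Groth.Agent.ResProp.EF.K982.N2a

/-!
# N2, part b (helper982, independent copy): the matrix of an arrow out of `x`; act, rel, ep, theta
-/

set_option autoImplicit false
set_option linter.unusedSectionVars false
universe u v w

open Groth.Agent.Grpsch.AffGrpd

namespace Groth.Agent.ResProp.EF.K982

section

variable {A B : Type u} [CommRing A] [CommRing B] {G : RGrpd A B} {k : Type u} [Field k] {x : A →+* k}
  {ι : Type} [Fintype ι] {F : Fam G ι} {r : ℕ} (K : KM x F r)
  {T : Type u} [CommRing T] {T' : Type u} [CommRing T']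

lemma Fam.ev_map (f : T →+* T') (β : B →+* T) : F.ev (f.comp β) = fun i => f (F.ev β i) := rfl

/-- composition with the inverse of an arrow out of `x` -/
lemma Fam.ev_div (β α : B →+* T) (hh : β.comp G.s = α.comp G.s) :
    F.ev (G.comp β (α.comp G.i) (by rw [inv_t, hh])) = Matrix.vecMul (F.ev β) (F.h.map (α.comp G.i)) :=
  F.ev_comp _ _ _

include K in
lemma KM.kill₂ {κ : Type} (y : k →+* T) (V V' : Matrix ι κ T)
    (h : ∀ {T' : Type u} [CommRing T'] (f : T →+* T') (β : B →+* T'), β.comp G.s = (f.comp y).comp x →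
      Matrix.vecMul (F.ev β) (V.map f) = Matrix.vecMul (F.ev β) (V'.map f)) :
    K.Mb.map y * V = K.Mb.map y * V' := by
  ext b j
  have h0 := congrFun (K.kill y (fun i => V i j - V' i j) (fun f β hβ => by
    have h1 := congrFun (h f β hβ) j
    simp only [Matrix.vecMul, dotProduct, Matrix.map_apply] at h1
    simp only [dotProduct, map_sub, mul_sub, Finset.sum_sub_distrib]
    rw [h1, sub_self])) b
  simp only [Matrix.mulVec, dotProduct, mul_sub, Finset.sum_sub_distrib] at h0
  simp only [Matrix.mul_apply]
  exact sub_eq_zero.mp h0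

/-- the matrix of functionals -/
def KM.N (y : k →+* T) (α : B →+* T) (X : Matrix (Fin r) (Fin r) T) : Matrix (Fin r) ι T :=
  X * K.Mb.map y * F.h.map (α.comp G.i)

lemma KM.N_map (f : T →+* T') (y : k →+* T) (α : B →+* T) (X : Matrix (Fin r) (Fin r) T) :
    (K.N y α X).map f = K.N (f.comp y) (f.comp α) (X.map f) := by
  simp only [KM.N, Matrix.map_mul, Matrix.map_map]
  rfl

section

variable {y : k →+* T} {α : B →+* T} (hα : α.comp G.s = y.comp x) (X : Matrix (Fin r) (Fin r) T)

include hα

/-- inverse arrows multiply -/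
lemma KM.N_act (γ : B →+* T) (hγ : γ.comp G.s = α.comp G.t) :
    K.N y (G.comp γ α hγ) X = K.N y α X * F.h.map (γ.comp G.i) := by
  rw [KM.N, KM.N, Matrix.mul_assoc, Matrix.mul_assoc, Matrix.mul_assoc]
  congr 1
  have := K.kill₂ y (F.h.map ((G.comp γ α hγ).comp G.i)) (F.h.map (α.comp G.i) * F.h.map (γ.comp G.i)) (by
    intro T' _ f β hβ
    have hβα : β.comp G.s = (f.comp α).comp G.s := by
      rw [hβ, RingHom.comp_assoc, ← hα, RingHom.comp_assoc]
    have hfγ : (f.comp γ).comp G.s = (f.comp α).comp G.t := by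
      rw [RingHom.comp_assoc, hγ, RingHom.comp_assoc]
    have e1 : (F.h.map ((G.comp γ α hγ).comp G.i)).map f =
        F.h.map ((G.comp (f.comp γ) (f.comp α) hfγ).comp G.i) := by
      rw [Matrix.map_map, ← G.comp_nat f γ α hγ]
      rfl
    have hβ2 : β.comp G.s = (G.comp (f.comp γ) (f.comp α) hfγ).comp G.s := by rw [G.comp_s, hβα]
    rw [e1, ← Fam.ev_div β (G.comp (f.comp γ) (f.comp α) hfγ) hβ2, Matrix.map_mul, ← Matrix.vecMul_vecMul]
    have e2 : (F.h.map (α.comp G.i)).map f = F.h.map ((f.comp α).comp G.i) := rfl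
    have e3 : (F.h.map (γ.comp G.i)).map f = F.h.map ((f.comp γ).comp G.i) := rfl
    rw [e2, e3, ← Fam.ev_div β (f.comp α) hβα]
    have h4 : (G.comp β ((f.comp α).comp G.i) (by rw [inv_t, hβα])).comp G.s =
        ((f.comp γ).comp G.i).comp G.t := by
      rw [G.comp_s, inv_s, inv_t, hfγ]
    rw [← F.ev_comp _ _ h4]
    congr 1
    have h5 : ((f.comp α).comp G.i).comp G.s = ((f.comp γ).comp G.i).comp G.t := by
      rw [inv_s, inv_t, hfγ]
    refine Eq.trans ?_ (G.assoc β _ _ (by rw [inv_t, hβα]) h5).symm
    exact comp_congr rfl (inv_comp (f.comp γ) (f.comp α) hfγ) _ _)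
  exact this

/-- relations are killed -/
lemma KM.N_rel (u : ι → A) (hu : ∑ j, G.s (u j) * F.C j = 0) :
    Matrix.mulVec (K.N y α X) (fun j => α (G.t (u j))) = 0 := by
  rw [KM.N, Matrix.mul_assoc, ← Matrix.mulVec_mulVec, ← Matrix.mulVec_mulVec]
  have : Matrix.mulVec (K.Mb.map y) (Matrix.mulVec (F.h.map (α.comp G.i)) fun j => α (G.t (u j))) = 0 := by
    apply K.kill
    intro T' _ f β hβ
    have hβα : β.comp G.s = (f.comp α).comp G.s := by
      rw [hβ, RingHom.comp_assoc, ← hα, RingHom.comp_assoc]
    have e1 : (fun i => f (Matrix.mulVec (F.h.map (α.comp G.i)) (fun j => α (G.t (u j))) i)) =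
        Matrix.mulVec (F.h.map ((f.comp α).comp G.i)) (fun j => f (α (G.t (u j)))) := by
      funext i
      simp only [Matrix.mulVec, dotProduct, map_sum, map_mul]
      rfl
    rw [e1, Matrix.dotProduct_mulVec, ← Fam.ev_div β (f.comp α) hβα]
    have h2 : (G.comp β ((f.comp α).comp G.i) (by rw [inv_t, hβα])).comp G.s = (f.comp α).comp G.t := by
      rw [G.comp_s, inv_s]
    have h3 := congrArg (G.comp β ((f.comp α).comp G.i) (by rw [inv_t, hβα])) hu
    rw [map_sum, map_zero] at h3
    rw [← h3, dotProduct]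
    refine Finset.sum_congr rfl fun j _ => ?_
    rw [map_mul, mul_comm]
    congr 1
    exact (RingHom.congr_fun h2 (u j)).symm
  rw [this, Matrix.mulVec_zero]

/-- value at the identity -/
lemma KM.N_ep (Xi : Matrix (Fin r) (Fin r) T) (hX : X * Xi = 1) :
    Matrix.vecMul (Matrix.vecMul (Matrix.vecMul (F.ev α) (K.S.map y)) Xi) (K.N y α X) =
      fun j => α (G.t (G.e (F.C j))) := by
  have hX' : Xi * X = 1 := mul_eq_one_comm.mp hX
  rw [KM.N, Matrix.mul_assoc, Matrix.vecMul_vecMul, ← Matrix.mul_assoc, hX', Matrix.one_mul,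
    Matrix.vecMul_vecMul, ← Matrix.mul_assoc, ← Matrix.map_mul, ← Matrix.vecMul_vecMul,
    K.rc y α hα, ← Fam.ev_div α α rfl]
  funext j
  have := RingHom.congr_fun (G.comp_i α) (F.C j)
  exact this

end


section theta

variable {ι' : Type} [Fintype ι'] {F' : Fam G ι'} {r' : ℕ} (K' : KM x F' r')
  {y : k →+* T} {α : B →+* T} (hα : α.comp G.s = y.comp x) (X : Matrix (Fin r) (Fin r) T)

include hα

/-- matrix columns: `v` is a coefficient vector (over the target of `α`) of an element of `B` which, as a
function of arrows out of the target, is invariant -/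
lemma KM.N_inv (w : ι → A) (w0 : ι → A)
    (h : ∀ {T' : Type u} [CommRing T'] (δ β : B →+* T'), δ.comp G.t = β.comp G.t →
      ∑ j, δ (F.C j) * δ (G.s (w j)) = ∑ j, β (F.C j) * β (G.s (w0 j))) :
    Matrix.mulVec (K.N y α X) (fun j => α (G.t (w j))) =
      Matrix.mulVec (X * K.Mb.map y) (fun j => y (x (w0 j))) := by
  rw [KM.N, ← Matrix.mulVec_mulVec, ← Matrix.mulVec_mulVec, ← Matrix.mulVec_mulVec]
  congr 1
  have := K.kill₂ (κ := Unit) y (Matrix.of fun i _ => Matrix.mulVec (F.h.map (α.comp G.i)) (fun j => α (G.t (w j))) i)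
    (Matrix.of fun i _ => y (x (w0 i))) (by
      intro T' _ f β hβ
      have hβα : β.comp G.s = (f.comp α).comp G.s := by
        rw [hβ, RingHom.comp_assoc, ← hα, RingHom.comp_assoc]
      funext _
      have e1 : (fun i => f (Matrix.mulVec (F.h.map (α.comp G.i)) (fun j => α (G.t (w j))) i)) =
          Matrix.mulVec (F.h.map ((f.comp α).comp G.i)) (fun j => f (α (G.t (w j)))) := by
        funext i
        simp only [Matrix.mulVec, dotProduct, map_sum, map_mul]
        rfl
      change F.ev β ⬝ᵥ (fun i => f (Matrix.mulVec (F.h.map (α.comp G.i)) (fun j => α (G.t (w j))) i)) =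
        F.ev β ⬝ᵥ (fun i => f (y (x (w0 i))))
      rw [e1, Matrix.dotProduct_mulVec, ← Fam.ev_div β (f.comp α) hβα]
      have h2 : (G.comp β ((f.comp α).comp G.i) (by rw [inv_t, hβα])).comp G.s = (f.comp α).comp G.t := by
        rw [G.comp_s, inv_s]
      have h3 := h (G.comp β ((f.comp α).comp G.i) (by rw [inv_t, hβα])) β (G.comp_t _ _ _)
      refine Eq.trans ?_ (h3.trans ?_)
      · refine Finset.sum_congr rfl fun j _ => ?_
        congr 1
        exact (RingHom.congr_fun h2 (w j)).symm
      · refine Finset.sum_congr rfl fun j _ => ?_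
        congr 1
        exact RingHom.congr_fun hβ (w0 j))
  funext b
  have h5 := congrFun (congrFun this b) ()
  exact h5

/-- the two variable invariant -/
lemma KM.N_inv₂ (X' : Matrix (Fin r') (Fin r') T) (W : Matrix ι ι' A)
    (h : ∀ {T' : Type u} [CommRing T'] (δ₁ δ₂ β₁ β₂ : B →+* T'), δ₁.comp G.s = δ₂.comp G.s →
      β₁.comp G.s = β₂.comp G.s →
      (∀ h1 h2, G.comp δ₁ (δ₂.comp G.i) h1 = G.comp β₁ (β₂.comp G.i) h2) →
      ∑ i, δ₁ (F.C i) * ∑ j, δ₂ (G.s (W i j)) * δ₂ (F'.C j) =
        ∑ i, β₁ (F.C i) * ∑ j, β₂ (G.s (W i j)) * β₂ (F'.C j)) :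
    K.N y α X * W.map (fun a => α (G.t a)) * (K'.N y α X').transpose =
      X * K.Mb.map y * W.map (fun a => y (x a)) * (X' * K'.Mb.map y).transpose := by
  have hK : K.Mb.map y * (F.h.map (α.comp G.i) * W.map (fun a => α (G.t a)) *
      (F'.h.map (α.comp G.i)).transpose * (K'.Mb.map y).transpose) =
      K.Mb.map y * (W.map (fun a => y (x a)) * (K'.Mb.map y).transpose) := by
    apply K.kill₂
    intro T' _ f β hβ
    -- transpose
    have key : (K'.Mb.map (f.comp y)) * (((Matrix.of fun (_ : Unit) i => F.ev β i) *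
        (F.h.map (α.comp G.i) * W.map (fun a => α (G.t a)) * (F'.h.map (α.comp G.i)).transpose).map f).transpose) =
        (K'.Mb.map (f.comp y)) * (((Matrix.of fun (_ : Unit) i => F.ev β i) *
        (W.map (fun a => y (x a))).map f).transpose) := by
      apply K'.kill₂
      intro T'' _ f' β₂ hβ₂
      funext u
      have hβα : (f'.comp β).comp G.s = ((f'.comp f).comp α).comp G.s := by
        ext a
        exact (congrArg f' (RingHom.congr_fun hβ a)).trans
          (congrArg (fun z => f' (f z)) (RingHom.congr_fun hα a)).symm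
      have hβα₂ : β₂.comp G.s = ((f'.comp f).comp α).comp G.s := by
        ext a
        exact (RingHom.congr_fun hβ₂ a).trans
          (congrArg (fun z => f' (f z)) (RingHom.congr_fun hα a)).symm
      have h1 : (f'.comp β).comp G.s = (((f'.comp f).comp α).comp G.i).comp G.t := by rw [inv_t, hβα]
      have h2 : β₂.comp G.s = (((f'.comp f).comp α).comp G.i).comp G.t := by rw [inv_t, hβα₂]
      have hs1 : (G.comp (f'.comp β) _ h1).comp G.s = ((f'.comp f).comp α).comp G.t := by
        rw [G.comp_s, inv_s]
      have hs2 : (G.comp β₂ _ h2).comp G.s = ((f'.comp f).comp α).comp G.t := by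
        rw [G.comp_s, inv_s]
      have h3 := h (G.comp (f'.comp β) _ h1) (G.comp β₂ _ h2) (f'.comp β) β₂ (hs1.trans hs2.symm)
        (hβα.trans hβα₂.symm) (by
          intro h4 h5
          have e2 : (G.comp β₂ (((f'.comp f).comp α).comp G.i) h2).comp G.i =
              G.comp ((f'.comp f).comp α) (β₂.comp G.i) (by rw [inv_t, hβα₂]) := by
            rw [inv_comp]
            exact comp_congr (inv_inv _) rfl _ _
          have h6 : (((f'.comp f).comp α).comp G.i).comp G.s =
              (G.comp ((f'.comp f).comp α) (β₂.comp G.i) (by rw [inv_t, hβα₂])).comp G.t := by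
            rw [inv_s, G.comp_t]
          refine (comp_congr rfl e2 h4 (by rw [G.comp_s, inv_s, G.comp_t])).trans ?_
          refine (G.assoc (f'.comp β) (((f'.comp f).comp α).comp G.i) _ h1 h6).trans ?_
          refine comp_congr rfl ?_ _ _
          refine (G.assoc (((f'.comp f).comp α).comp G.i) ((f'.comp f).comp α) (β₂.comp G.i)
            (by rw [inv_s]) (by rw [inv_t, hβα₂])).symm.trans ?_
          apply comp_one_left
          rw [G.i_comp, inv_t, hβα₂])
      -- left hand side
      have L1 : F.ev (G.comp (f'.comp β) _ h1) = Matrix.vecMul (F.ev (f'.comp β))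
        (F.h.map (((f'.comp f).comp α).comp G.i)) := F.ev_comp _ _ _
      have L2 : F'.ev (G.comp β₂ _ h2) = Matrix.vecMul (F'.ev β₂)
        (F'.h.map (((f'.comp f).comp α).comp G.i)) := F'.ev_comp _ _ _
      have LHS : Matrix.vecMul (F'.ev β₂) ((((Matrix.of fun (_ : Unit) i => F.ev β i) *
          (F.h.map (α.comp G.i) * W.map (fun a => α (G.t a)) *
            (F'.h.map (α.comp G.i)).transpose).map f).transpose).map f') u =
          ∑ i, (G.comp (f'.comp β) _ h1) (F.C i) * ∑ j, (G.comp β₂ _ h2) (G.s (W i j)) *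
            (G.comp β₂ _ h2) (F'.C j) := by
        have e3 : ((((Matrix.of fun (_ : Unit) i => F.ev β i) *
          (F.h.map (α.comp G.i) * W.map (fun a => α (G.t a)) *
            (F'.h.map (α.comp G.i)).transpose).map f).transpose).map f') =
            (F'.h.map (((f'.comp f).comp α).comp G.i)) *
              ((Matrix.of fun (_ : Unit) i => F.ev (f'.comp β) i) *
              (F.h.map (((f'.comp f).comp α).comp G.i)) *
              W.map (fun a => f' (f (α (G.t a))))).transpose := by
          ext j _
          simp only [Matrix.map_apply, Matrix.transpose_apply, Matrix.mul_apply, Matrix.of_apply,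
            map_sum, map_mul, Fam.ev, RingHom.comp_apply, Finset.sum_mul, Finset.mul_sum]
          rw [Finset.sum_comm]
          refine Finset.sum_congr rfl fun a _ => ?_
          rw [Finset.sum_comm]
          refine Finset.sum_congr rfl fun b _ => ?_
          refine Finset.sum_congr rfl fun c _ => ?_
          ring
        rw [e3, ← Matrix.vecMul_vecMul, ← L2]
        have L1' : ∀ i, ((Matrix.of fun (_ : Unit) i => F.ev (f'.comp β) i) *
            (F.h.map (((f'.comp f).comp α).comp G.i))) u i = (G.comp (f'.comp β) _ h1) (F.C i) :=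
          fun i => (congrFun L1 i).symm
        have hW : ∀ i j, f' (f (α (G.t (W i j)))) = (G.comp β₂ _ h2) (G.s (W i j)) := fun i j =>
          (RingHom.congr_fun hs2 (W i j)).symm
        simp only [Matrix.vecMul, dotProduct, Matrix.transpose_apply]
        simp only [Matrix.mul_apply (M := (Matrix.of fun (_ : Unit) i => F.ev (f'.comp β) i) *
            (F.h.map (((f'.comp f).comp α).comp G.i))), L1', Matrix.map_apply, hW, Finset.mul_sum]
        rw [Finset.sum_comm]
        refine Finset.sum_congr rfl fun i _ => Finset.sum_congr rfl fun j _ => ?_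
        change (G.comp β₂ _ h2) (F'.C j) * _ = _
        ring
      have RHS : Matrix.vecMul (F'.ev β₂) ((((Matrix.of fun (_ : Unit) i => F.ev β i) *
          (W.map (fun a => y (x a))).map f).transpose).map f') u =
          ∑ i, (f'.comp β) (F.C i) * ∑ j, β₂ (G.s (W i j)) * β₂ (F'.C j) := by
        have hW : ∀ i j, f' (f (y (x (W i j)))) = β₂ (G.s (W i j)) := fun i j =>
          (RingHom.congr_fun hβ₂ (W i j)).symm
        simp only [Matrix.vecMul, dotProduct, Matrix.transpose_apply, Matrix.map_apply,
          Matrix.mul_apply, Matrix.of_apply, map_sum, map_mul, hW, Finset.mul_sum]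
        rw [Finset.sum_comm]
        refine Finset.sum_congr rfl fun i _ => Finset.sum_congr rfl fun j _ => ?_
        change β₂ (F'.C j) * (f' (β (F.C i)) * _) = f' (β (F.C i)) * _
        ring
      rw [LHS, RHS]
      exact h3
    have tt : ∀ {a b c : Type} [Fintype b] (P : Matrix a b T') (Q : Matrix c b T'),
        (P * Q.transpose).transpose = Q * P.transpose := fun P Q => by
      rw [Matrix.transpose_mul, Matrix.transpose_transpose]
    have key' := congrArg Matrix.transpose key
    rw [tt, tt] at key'
    have e5 : (K'.Mb.map (f.comp y)).transpose = ((K'.Mb.map y).transpose).map f := rfl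
    rw [e5] at key'
    have key'' : (Matrix.of fun (_ : Unit) i => F.ev β i) *
        ((F.h.map (α.comp G.i) * W.map (fun a => α (G.t a)) * (F'.h.map (α.comp G.i)).transpose *
          (K'.Mb.map y).transpose).map f) = (Matrix.of fun (_ : Unit) i => F.ev β i) *
        ((W.map (fun a => y (x a)) * (K'.Mb.map y).transpose).map f) := by
      rw [Matrix.map_mul (L := F.h.map (α.comp G.i) * W.map (fun a => α (G.t a)) *
        (F'.h.map (α.comp G.i)).transpose), Matrix.map_mul (L := W.map (fun a => y (x a)))]
      rw [← Matrix.mul_assoc, ← Matrix.mul_assoc]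
      exact key'
    funext c
    exact congrFun (congrFun key'' ()) c
  have e6 : (K'.N y α X').transpose = (F'.h.map (α.comp G.i)).transpose * (K'.Mb.map y).transpose *
      X'.transpose := by
    rw [KM.N, Matrix.transpose_mul, Matrix.transpose_mul, Matrix.mul_assoc]
  rw [e6, KM.N, Matrix.transpose_mul]
  calc X * K.Mb.map y * F.h.map (α.comp G.i) * W.map (fun a => α (G.t a)) *
        ((F'.h.map (α.comp G.i)).transpose * (K'.Mb.map y).transpose * X'.transpose)
      = X * (K.Mb.map y * (F.h.map (α.comp G.i) * W.map (fun a => α (G.t a)) *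
      (F'.h.map (α.comp G.i)).transpose * (K'.Mb.map y).transpose)) * X'.transpose := by
        simp only [Matrix.mul_assoc]
    _ = X * (K.Mb.map y * (W.map (fun a => y (x a)) * (K'.Mb.map y).transpose)) * X'.transpose := by
        rw [hK]
    _ = _ := by simp only [Matrix.mul_assoc]

end theta

end

end Groth.Agent.ResProp.EF.K982
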